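import Cfsg.Agent.H327.RG.Untw
import Cfsg.Agent.H69.OutGF
import Cfsg.Agent.H28.GenF.Main
import Cfsg.Agent.H689.Ccp.GForm

/-!
# S3509: the automorphisms of prime order of `G₂(q)` (helper244)

`cases_g2` : an automorphism of prime order `p` of `G₂(F)` is inner-diagonal, of field type, or `p = 2`, `|F| = 3 ^ n`,
`n` odd, and it is `conj y * Γ ^ n` on the algebraic group, `Γ` the special isogeny.
-/

set_option autoImplicit false
set_option linter.unusedSectionVars false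

namespace Cfsg.Agent.H244.S3509G2

open CoxeterSystem Subgroup Cfsg Cfsg.Lie Cfsg.Lie.ChevalleyDatum
open Cfsg.Agent.ChevalleyStructure Cfsg.Agent.ChevalleyStructure.Elts Cfsg.Agent.ChevalleyStructure.CoxeterGeom
  Cfsg.Agent.ChevalleyStructure.CoxeterGeomTypes Cfsg.Agent.ChevalleyStructure.NPerm
open Cfsg.Agent.Tits.Roots Cfsg.Agent.Tits.Core Cfsg.Agent.Nodes.Reps Cfsg.Agent.Nodes.BNOf
  Cfsg.Agent.Nodes.RGDChev Cfsg.Agent.Nodes.Bruhat Cfsg.Agent.Nodes.OppDec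
open Cfsg.Agent.KFacts.RgdAut Cfsg.Agent.KFacts.RgdDiag Cfsg.Agent.KFacts.RgdRigid
  Cfsg.Agent.KFacts.RgdField Cfsg.Agent.KFacts.RgdTau Cfsg.Agent.KFacts.RgdChevCoord
  Cfsg.Agent.CpAut.RgdUntw Cfsg.Agent.CpAut.RgdConj
open Cfsg.Agent.GpExc.Field (glMap emb coe_emb glMap_xG emb_injective coe_glMap)
open Cfsg.Agent.BpExc Cfsg.Agent.BpExc.FamExt Cfsg.Agent.BpExc.FamFrame Cfsg.Agent.BpExc.FamField Cfsg.Agent.BpExc.Tow
  Cfsg.Agent.BpExc.TowChev Cfsg.Agent.BpExc.FamUntw Cfsg.Agent.BpExc.FamInst Cfsg.Agent.BpExc.LangFr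
open Cfsg.Agent.H469.Exc Cfsg.Agent.H469.Exc.SigFr
open Cfsg.Agent.H28.GenF Cfsg.Agent.H327.RG
open scoped Pointwise

section gen

variable {D : ChevalleyDatum} {l : ℕ} {M : CoxeterMatrix (Fin l)} (hp : IsType D l M)
  {r : ℕ} [Fact r.Prime] {F : Type} [Field F] [Fintype F] [CharP F r] (f : F →+* KK r)
  {d : ℕ} {B : Fin l → Fin l → ℤ}

/-- an automorphism of order `p` without graph part -/
theorem ty_of_tau (hB : InvC D l d B) (hd : d ≠ 0) (hl : Nonempty (Fin l))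
    (hconn : ∀ J : Set (Fin l), J.Nonempty → J ≠ Set.univ → ∃ a ∈ J, ∃ b, b ∉ J ∧ M a b ≠ 2)
    {p : ℕ} (hpp : p.Prime) {n : ℕ} (hn : Nat.card F = r ^ n) {x : MulAut ↥(D.group F)}
    {g : ↥(D.group F)} {τ : F ≃+* F}
    (hτ : Tau (TT D F) (XX D l F) (ch hp) (cartanOf D l) (MulAut.conj g * x) 1 τ) (hτp : τ ^ p = 1) :
    Ty hp f n p x := by
  have hroots : ∀ c : F, c ≠ 0 → ∃ b : KK r, b ^ d = f c := fun c _ =>
    IsAlgClosed.exists_pow_nat_eq (f c) (Nat.pos_of_ne_zero hd)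
  by_cases hτ1 : τ = 1
  · left
    subst hτ1
    obtain ⟨t, ht, e⟩ := exists_ext hp f r hconn hB hd hroots hτ (τ' := (1 : KK r ≃+* KK r)) (fun a => rfl)
    have e' : ∀ y, emb hp.inList f (x y) = ((emb hp.inList f g)⁻¹ * t) * emb hp.inList f y *
        ((emb hp.inList f g)⁻¹ * t)⁻¹ := by
      intro y
      have h1 := e y
      rw [fld_one, MulAut.mul_apply, MulAut.conj_apply, map_mul, map_mul, map_inv] at h1
      have h2 : emb hp.inList f (x y) = (emb hp.inList f g)⁻¹ * (emb hp.inList f g * emb hp.inList f (x y) *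
        (emb hp.inList f g)⁻¹) * emb hp.inList f g := by group
      rw [h2, h1]
      show _ * (t * emb hp.inList f y * t⁻¹) * _ = _
      group
    exact ⟨_, e'⟩
  · right
    obtain ⟨i, m, hi, hm0, hcard, hfr⟩ := exists_field r hpp hτp hτ1
    have hmn : m * p = n := by
      rw [hn] at hcard
      exact (Nat.pow_right_injective (Fact.out : r.Prime).two_le hcard).symm
    obtain ⟨g', eg⟩ := exists_conj_pow g x i
    have hτi := hτ.pow i
    rw [eg, one_pow] at hτi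
    obtain ⟨t, ht, e⟩ := exists_ext hp f r hconn hB hd hroots hτi (τ' := frb (KK r) r m) (fun a => by
      rw [frb_apply, hfr, map_pow])
    have e' : ∀ y, emb hp.inList f ((x ^ i) y) =
        (MulAut.conj ((emb hp.inList f g')⁻¹ * t) * phi D (KK r) r m) (emb hp.inList f y) := by
      intro y
      have h1 := e y
      rw [MulAut.mul_apply, MulAut.conj_apply, map_mul, map_mul, map_inv] at h1
      have h2 : emb hp.inList f ((x ^ i) y) = (emb hp.inList f g')⁻¹ * (emb hp.inList f g' *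
        emb hp.inList f ((x ^ i) y) * (emb hp.inList f g')⁻¹) * emb hp.inList f g' := by group
      rw [h2, h1, MulAut.mul_apply, MulAut.conj_apply]
      show _ * (t * phi D (KK r) r m (emb hp.inList f y) * t⁻¹) * _ = _
      group
    exact ⟨i, m, _, hi, hm0, hmn, e'⟩

end gen

section frame

variable {F : Type} [Field F] [Fintype F]

theorem fin2 (i : Fin 2) : i = 0 ∨ i = 1 := by fin_cases i <;> simp

/-- `Diag` gives `Perm` -/
theorem perm_of_diag {φ : MulAut ↥(chevG2.group F)} {σ : Equiv.Perm (Fin 2)}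
    (h : Diag (TT chevG2 F) (XX chevG2 2 F) φ σ) :
    H70.ChevField.Perm chevG2 F φ (σ : Equiv.Perm (Fin 2)) := by
  have hpos : ∀ i : Fin 2, ∀ y : ↥(chevG2.group F), y ∈ XX chevG2 2 F (sr i) ↔
      y ∈ H70.ChevFix.XX chevG2 F (chevG2.simple i) := by
    intro i y
    rw [Subgroup.mem_subgroupOf, XV_sr RowsUntw.g2T]
    exact Iff.rfl
  have hneg : ∀ i : Fin 2, ∀ y : ↥(chevG2.group F), y ∈ XX chevG2 2 F (-sr i) ↔
      y ∈ H70.ChevFix.XX chevG2 F (chevG2.neg (chevG2.simple i)) := by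
    intro i y
    rw [Subgroup.mem_subgroupOf, XV_neg_sr RowsUntw.g2T]
    exact Iff.rfl
  have kpos : ∀ i : Fin 2, φ • H70.ChevFix.XX chevG2 F (chevG2.simple i) = H70.ChevFix.XX chevG2 F (chevG2.simple (σ i)) := by
    intro i
    ext y
    have h1 := h.pos i (φ⁻¹ y)
    rw [hpos, hpos, MulAut.apply_inv_self] at h1
    rw [Subgroup.mem_pointwise_smul_iff_inv_smul_mem]
    exact h1.symm
  have kneg : ∀ i : Fin 2, φ • H70.ChevFix.XX chevG2 F (chevG2.neg (chevG2.simple i)) =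
      H70.ChevFix.XX chevG2 F (chevG2.neg (chevG2.simple (σ i))) := by
    intro i
    ext y
    have h1 := h.neg i (φ⁻¹ y)
    rw [hneg, hneg, MulAut.apply_inv_self] at h1
    rw [Subgroup.mem_pointwise_smul_iff_inv_smul_mem]
    exact h1.symm
  exact ⟨kpos, kneg⟩

/-- the frame form of an automorphism of order dividing `p` -/
theorem frame_g2 (r : ℕ) [Fact r.Prime] [CharP F r] {p : ℕ} {x : MulAut ↥(chevG2.group F)} (hx : x ^ p = 1) :
    (∃ (g : ↥(chevG2.group F)) (τ : F ≃+* F),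
      Tau (TT chevG2 F) (XX chevG2 2 F) (ch RowsUntw.g2T) (cartanOf chevG2 2) (MulAut.conj g * x) 1 τ ∧ τ ^ p = 1) ∨
    ∃ (g : ↥(chevG2.group F)) (σ : Equiv.Perm (Fin 2)), σ ≠ 1 ∧ σ ^ p = 1 ∧
      H70.ChevField.Perm chevG2 F (MulAut.conj g * x) (σ : Equiv.Perm (Fin 2)) := by
  have hp := RowsUntw.g2T
  obtain ⟨cs⟩ : Nonempty (CoxeterSystem CoxeterMatrix.G₂ CoxeterMatrix.G₂.Group) := ⟨CoxeterMatrix.G₂.toCoxeterSystem⟩
  obtain ⟨hl, hconn⟩ := conn_of_fin (r := r) hp (S1055.result exists_ne_gal)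
  have hW := finite_W hp cs
  have R := rgd (K := F) hp cs r
  have C := coords (K := F) hp cs r
  have H := coroots (K := F) hp cs r
  have hG := TorChev.GG_top (K := F) hp cs
  obtain ⟨g, h1, h2, σ, Dg⟩ := exists_frame_any R hG x
  obtain ⟨g', e⟩ := exists_conj_pow g x p
  rw [hx, mul_one] at e
  have hpow : ∀ {S : Subgroup ↥(chevG2.group F)}, Fix (MulAut.conj g * x) S → Fix ((MulAut.conj g * x) ^ p) S := by
    intro S hS
    generalize p = k
    induction k with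
    | zero => intro y; rw [pow_zero]; exact Iff.rfl
    | succ k ih => rw [pow_succ]; exact ih.mul hS
  have hg' : g' ∈ TT chevG2 F := by
    refine mem_T_of_frame R hG ?_ ?_
    · rw [← e]; exact hpow h1
    · rw [← e]; exact hpow h2
  have hσm : σ ^ p = 1 := by
    have h3 := Dg.pow p
    rw [e] at h3
    have h4 := h3.mul (diag_conj R (inv_mem hg'))
    rw [← map_mul, mul_inv_cancel, map_one, mul_one] at h4
    ext i
    obtain ⟨u, hu, hu1⟩ := exists_ne_one R i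
    exact congrArg Fin.val (Diag.apply_eq R h4 hu hu1 rfl)
  by_cases hσ1 : σ = 1
  · left
    subst hσ1
    obtain ⟨τ, hτ⟩ := exists_tau R C H hconn Dg (fun _ _ => rfl)
    refine ⟨g, τ, hτ, ?_⟩
    have h3 := hτ.pow p
    rw [e, one_pow] at h3
    exact (Tau.unique R C h3 (tau_conj R C hg')).2
  · exact Or.inr ⟨g, σ, hσ1, hσm, perm_of_diag Dg⟩

/-- no graph automorphism in characteristic `≠ 3` -/
theorem no_perm {r : ℕ} [Fact r.Prime] [CharP F r] (h3 : r ≠ 3) (hq : 3 ≤ Nat.card F) {φ : MulAut ↥(chevG2.group F)} {σ : Equiv.Perm (Fin 2)}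
    (hσ : σ ≠ 1) (h : H70.ChevField.Perm chevG2 F φ (σ : Equiv.Perm (Fin 2))) : False := by
  have h30 : (3 : F) ≠ 0 := by
    intro h0
    have h1 : ((3 : ℕ) : F) = 0 := by exact_mod_cast h0
    rw [CharP.cast_eq_zero_iff F r] at h1
    exact h3 ((Nat.prime_dvd_prime_iff_eq Fact.out Nat.prime_three).1 h1)
  have h1 : σ = Equiv.swap 0 1 := (H69.OutGF.perm2 σ).resolve_left hσ
  subst h1
  exact H69.OutGF.flip2_not_mem h30 hq ⟨φ, h⟩

end frame

/-- a Frobenius which is inner on `G₂(F)` -/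
theorem dvd_of_conj {r : ℕ} [Fact r.Prime] {F : Type} [Field F] [Fintype F] [CharP F r] (f : F →+* KK r) {n : ℕ}
    (hn : Nat.card F = r ^ n) {m : ℕ} {w : ↥(chevG2.group (KK r))}
    (hw : ∀ a, emb RowsUntw.g2T.inList f a = w * phi chevG2 (KK r) r m (emb RowsUntw.g2T.inList f a) * w⁻¹) :
    n ∣ m := by
  have hZ : center ↥(chevG2.group (KK r)) = ⊥ := center_bot' (S1055.result (exists_ne_algClosed _))
  have hw1 : w = 1 := by
    let _ : Algebra (ZMod r) F := ZMod.algebra _ r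
    refine eq_one_of_comm RowsUntw.g2T (locFin r) r (f.comp (algebraMap (ZMod r) F)) hZ fun b => ?_
    have h2 := hw (emb RowsUntw.g2T.inList (algebraMap (ZMod r) F) b)
    rw [H28.GenF.emb_comp RowsUntw.g2T] at h2
    have h4 := phi_emb RowsUntw.g2T r (f.comp (algebraMap (ZMod r) F)) (n := 1)
      (by rw [Nat.card_zmod, pow_one]) b
    have h5 := H28.GenF.apply_pow h4 m
    rw [phi_pow, one_mul] at h5
    rw [h5] at h2
    exact (mul_inv_eq_iff_eq_mul.1 h2.symm)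
  subst hw1
  rw [← forall_pow_iff r hn m]
  intro t
  have h1 := hw (xs RowsUntw.g2T.inList 7 t)
  rw [emb_xs RowsUntw.g2T, one_mul, inv_one, mul_one] at h1
  unfold phi at h1
  rw [fld_xs, frb_apply, ← map_pow] at h1
  have h2 := xG_injective RowsUntw.g2T.inList (r := 7) (by decide) (congrArg Subtype.val h1)
  exact (f.injective h2).symm

section graph

open Cfsg.Agent.H689.Ccp (fl la gam GG2)

theorem xs_top {k : Type} [Field k] (N : Subgroup ↥(chevG2.group k))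
    (h : ∀ s < 12, ∀ t, xs RowsUntw.g2T.inList s t ∈ N) : N = ⊤ := by
  refine group_le RowsUntw.g2T N fun s t => ?_
  by_cases hs : s < 12
  · exact h s hs t
  · have e : xs RowsUntw.g2T.inList s t = (1 : ↥(chevG2.group k)) := by
      apply Subtype.ext
      apply Units.ext
      exact x_of_not_lt (D := chevG2) hs t
    rw [e]
    exact one_mem N

/-- the special isogeny -/
def SpecG {k : Type} [Field k] (Γ : MulAut ↥(chevG2.group k)) : Prop :=
  ∀ r < 12, ∀ t : k, Γ (xs RowsUntw.g2T.inList r t) = xs RowsUntw.g2T.inList (fl r) (t ^ la r)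

variable {F : Type} [Field F] [Fintype F] [CharP F 3] (f : F →+* KK 3)

local notation "ι" => emb RowsUntw.g2T.inList f

theorem emb_gam {Γ : MulAut ↥(chevG2.group (KK 3))} (hΓ : SpecG Γ) (a : ↥(chevG2.group F)) :
    ι (gam F a) = Γ (ι a) := by
  have h1 : ((ι).comp (gam F).toMonoidHom).eqLocus (Γ.toMonoidHom.comp ι) = ⊤ := by
    refine xs_top _ fun s hs t => ?_
    change ι (gam F (H689.Ccp.X s t)) = Γ (ι (xs RowsUntw.g2T.inList s t))
    rw [H689.Ccp.gam_X hs, emb_xs RowsUntw.g2T, hΓ s hs]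
    change ι (xs RowsUntw.g2T.inList (fl s) (t ^ la s)) = _
    rw [emb_xs RowsUntw.g2T, map_pow]
  have h2 : a ∈ ((ι).comp (gam F).toMonoidHom).eqLocus (Γ.toMonoidHom.comp ι) := by
    rw [h1]; exact mem_top a
  exact h2

theorem emb_fldτ {τ : F ≃+* F} {j : ℕ} (hτ : ∀ a, τ a = a ^ 3 ^ j) (a : ↥(chevG2.group F)) :
    ι (H689.Ccp.fld τ a) = phi chevG2 (KK 3) 3 j (ι a) := by
  have h1 : ((ι).comp (H689.Ccp.fld τ).toMonoidHom).eqLocus ((phi chevG2 (KK 3) 3 j).toMonoidHom.comp ι) = ⊤ := by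
    refine xs_top _ fun s hs t => ?_
    change ι (H689.Ccp.fld τ (H689.Ccp.X s t)) = phi chevG2 (KK 3) 3 j (ι (xs RowsUntw.g2T.inList s t))
    rw [H689.Ccp.fld_X τ hs, emb_xs RowsUntw.g2T]
    change ι (xs RowsUntw.g2T.inList s (τ t)) = _
    rw [emb_xs RowsUntw.g2T, hτ, map_pow]
    unfold phi
    rw [fld_xs, frb_apply]
  have h2 : a ∈ ((ι).comp (H689.Ccp.fld τ).toMonoidHom).eqLocus ((phi chevG2 (KK 3) 3 j).toMonoidHom.comp ι) := by
    rw [h1]; exact mem_top a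
  exact h2

theorem spec_sq {Γ : MulAut ↥(chevG2.group (KK 3))} (hΓ : SpecG Γ) : Γ ^ 2 = phi chevG2 (KK 3) 3 1 := by
  have h1 : (Γ ^ 2).toMonoidHom.eqLocus (phi chevG2 (KK 3) 3 1).toMonoidHom = ⊤ := by
    refine xs_top _ fun s hs t => ?_
    change (Γ ^ 2) (xs RowsUntw.g2T.inList s t) = phi chevG2 (KK 3) 3 1 (xs RowsUntw.g2T.inList s t)
    obtain ⟨h1, h2, h3, -⟩ := H689.Ccp.fl_tab s hs
    rw [pow_two, MulAut.mul_apply, hΓ s hs, hΓ _ h1, h2, ← pow_mul, h3]
    unfold phi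
    rw [fld_xs, frb_apply, pow_one]
  refine MulEquiv.ext fun a => ?_
  have h2 : a ∈ (Γ ^ 2).toMonoidHom.eqLocus (phi chevG2 (KK 3) 3 1).toMonoidHom := by
    rw [h1]; exact mem_top a
  exact h2

/-- **An involutory automorphism of graph type.** -/
theorem graph_of_perm {n : ℕ} (hn : Nat.card F = 3 ^ n) {Γ : MulAut ↥(chevG2.group (KK 3))} (hΓ : SpecG Γ)
    {x : MulAut ↥(chevG2.group F)} (hx : x ^ 2 = 1) {g : ↥(chevG2.group F)} {σ : Equiv.Perm (Fin 2)} (hσ : σ ≠ 1)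
    (h : H70.ChevField.Perm chevG2 F (MulAut.conj g * x) (σ : Equiv.Perm (Fin 2))) :
    Odd n ∧ ∃ y, ∀ a, ι (x a) = y * (Γ ^ n) (ι a) * y⁻¹ := by
  obtain ⟨u, v, hu, hv, τ, e⟩ := H689.Ccp.exists_form h hσ
  obtain ⟨j, hj⟩ := exists_pow_eq 3 τ
  obtain ⟨m, hm⟩ : ∃ m, m = 2 * j + 1 := ⟨_, rfl⟩
  have hΓ2 := spec_sq hΓ
  have hpow : ∀ k : ℕ, Γ ^ (2 * k) = phi chevG2 (KK 3) 3 k := by
    intro k
    rw [pow_mul, hΓ2, phi_pow, one_mul]
  -- the form
  obtain ⟨z, hz⟩ : ∃ z, ∀ a, ι (x a) = z * (Γ ^ m) (ι a) * z⁻¹ := by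
    refine ⟨ι (g⁻¹ * H689.Ccp.H u v), fun a => ?_⟩
    have e1 : x = MulAut.conj (g⁻¹ * H689.Ccp.H u v) * (H689.Ccp.fld τ * gam F) := by
      rw [map_mul, mul_assoc, ← e, ← mul_assoc, ← map_mul, inv_mul_cancel, map_one, one_mul]
    have e2 : x a = (g⁻¹ * H689.Ccp.H u v) * (H689.Ccp.fld τ (gam F a)) * (g⁻¹ * H689.Ccp.H u v)⁻¹ := by
      conv_lhs => rw [e1]
      rfl
    rw [e2, map_mul, map_mul, map_inv, emb_fldτ f hj, emb_gam f hΓ, hm, pow_succ, hpow]
    rfl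
  -- the square
  obtain ⟨w, hw⟩ : ∃ w, ∀ a, ι a = w * phi chevG2 (KK 3) 3 m (ι a) * w⁻¹ := by
    refine ⟨z * (Γ ^ m) z, fun a => ?_⟩
    have h1 : x (x a) = a := by
      have h2 := DFunLike.congr_fun hx a
      rwa [pow_two] at h2
    have h2 := hz (x a)
    rw [h1, hz a, map_mul, map_mul, map_inv, ← MulAut.mul_apply, ← pow_add, ← two_mul, hpow] at h2
    refine h2.trans ?_
    group
  have hdvd : n ∣ m := dvd_of_conj f hn hw
  obtain ⟨c, hc⟩ := hdvd
  have hodd : Odd m := ⟨j, hm⟩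
  rw [hc] at hodd
  obtain ⟨hn1, hc1⟩ := Nat.odd_mul.1 hodd
  refine ⟨hn1, z, fun a => ?_⟩
  obtain ⟨d, hd⟩ := hc1
  have h1 : (Γ ^ m) (ι a) = (Γ ^ n) (ι a) := by
    have e1 : m = n + 2 * (n * d) := by rw [hc, hd]; ring
    rw [e1, pow_add, MulAut.mul_apply, hpow, ← phi_pow]
    rw [H28.GenF.apply_pow (phi_emb RowsUntw.g2T 3 f hn a) d]
  rw [hz, h1]

end graph

/-- an automorphism of field type is not inner-diagonal -/
theorem not_inD_of_field {r : ℕ} [Fact r.Prime] {F : Type} [Field F] [Fintype F] [CharP F r] (f : F →+* KK r) {n : ℕ}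
    (hn : Nat.card F = r ^ n) {p : ℕ} (hpp : p.Prime) {x : MulAut ↥(chevG2.group F)} {i m : ℕ}
    {y : ↥(chevG2.group (KK r))} (hm : 0 < m) (hmn : m * p = n)
    (hy : ∀ a, emb RowsUntw.g2T.inList f ((x ^ i) a) =
      (MulAut.conj y * phi chevG2 (KK r) r m) (emb RowsUntw.g2T.inList f a)) :
    x ∉ InD (emb RowsUntw.g2T.inList f) := by
  intro hx
  obtain ⟨y', hy'⟩ : x ^ i ∈ InD (emb RowsUntw.g2T.inList f) := pow_mem hx i
  have h1 : n ∣ m := dvd_of_conj f hn (w := y'⁻¹ * y) fun a => by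
    have h2 := hy a
    rw [hy', MulAut.mul_apply, MulAut.conj_apply] at h2
    calc emb RowsUntw.g2T.inList f a = y'⁻¹ * (y' * emb RowsUntw.g2T.inList f a * y'⁻¹) * y' := by group
      _ = y'⁻¹ * (y * phi chevG2 (KK r) r m (emb RowsUntw.g2T.inList f a) * y⁻¹) * y' := by rw [h2]
      _ = _ := by group
  have h3 := Nat.le_of_dvd hm h1
  have h4 : m * 2 ≤ m * p := Nat.mul_le_mul_left m hpp.two_le
  omega

/-- a Tau automorphism without field part is inner -/
theorem inner_of_tau {r : ℕ} [Fact r.Prime] {F : Type} [Field F] [Fintype F] [CharP F r]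
    {x : MulAut ↥(chevG2.group F)} {g : ↥(chevG2.group F)}
    (hτ : Tau (TT chevG2 F) (XX chevG2 2 F) (ch RowsUntw.g2T) (cartanOf chevG2 2) (MulAut.conj g * x) 1
      (1 : F ≃+* F)) : ∃ y : ↥(chevG2.group F), x = MulAut.conj y := by
  obtain ⟨hl, hconn⟩ := conn_of_fin (r := r) RowsUntw.g2T (S1055.result exists_ne_gal)
  obtain ⟨t, ht, e⟩ := exists_ext RowsUntw.g2T (RingHom.id F) r hconn inv_G2 one_ne_zero
    (fun c _ => ⟨c, by rw [pow_one]; rfl⟩) hτ (τ' := (1 : F ≃+* F)) (fun a => rfl)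
  have hid : ∀ y : ↥(chevG2.group F), emb RowsUntw.g2T.inList (RingHom.id F) y = y := by
    intro y
    apply Subtype.ext
    apply Units.ext
    rw [coe_emb, coe_glMap]
    ext i j
    rfl
  refine ⟨g⁻¹ * t, MulEquiv.ext fun y => ?_⟩
  have h1 := e y
  rw [fld_one, hid, hid, MulAut.mul_apply, MulAut.conj_apply] at h1
  have h1' : g * x y * g⁻¹ = t * y * t⁻¹ := h1
  rw [MulAut.conj_apply]
  calc x y = g⁻¹ * (g * x y * g⁻¹) * g := by group
    _ = g⁻¹ * (t * y * t⁻¹) * g := by rw [h1']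
    _ = _ := by group

/-- **The automorphisms of prime order of `G₂(F)`.** -/
theorem cases_g2 {r : ℕ} [Fact r.Prime] {F : Type} [Field F] [Fintype F] [CharP F r] (hq : 3 ≤ Nat.card F)
    (f : F →+* KK r) {n : ℕ} (hn : Nat.card F = r ^ n) {p : ℕ} (hpp : p.Prime) {x : MulAut ↥(chevG2.group F)}
    (hx : x ^ p = 1) :
    Ty RowsUntw.g2T f n p x ∨ (p = 2 ∧ r = 3 ∧ ∃ (g : ↥(chevG2.group F)) (σ : Equiv.Perm (Fin 2)), σ ≠ 1 ∧
      H70.ChevField.Perm chevG2 F (MulAut.conj g * x) (σ : Equiv.Perm (Fin 2))) := by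
  rcases frame_g2 r hx with ⟨g, τ, h1, h2⟩ | ⟨g, σ, h1, h2, h3⟩
  · left
    obtain ⟨hl, hconn⟩ := conn_of_fin (r := r) RowsUntw.g2T (S1055.result exists_ne_gal)
    exact ty_of_tau RowsUntw.g2T f inv_G2 one_ne_zero hl hconn hpp hn h1 h2
  · right
    refine ⟨?_, ?_, g, σ, h1, h3⟩
    · have h4 : orderOf σ ∣ p := orderOf_dvd_of_pow_eq_one h2
      have h5 : σ ^ 2 = 1 := by
        rw [(H69.OutGF.perm2 σ).resolve_left h1]
        decide
      have h6 : orderOf σ ∣ 2 := orderOf_dvd_of_pow_eq_one h5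
      have h7 : orderOf σ ≠ 1 := fun h => h1 (orderOf_eq_one_iff.1 h)
      have h8 : orderOf σ = 2 := ((Nat.dvd_prime Nat.prime_two).1 h6).resolve_left h7
      rw [h8] at h4
      exact ((Nat.prime_dvd_prime_iff_eq Nat.prime_two hpp).1 h4).symm
    · by_contra hr
      exact no_perm hr hq h1 h3

/-- **The automorphisms of prime order of `G₂(F)`**, second form: inner, or of field type and not inner-diagonal, or of
graph type -/
theorem cases_g2' {r : ℕ} [Fact r.Prime] {F : Type} [Field F] [Fintype F] [CharP F r] (hq : 3 ≤ Nat.card F)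
    (f : F →+* KK r) {n : ℕ} (hn : Nat.card F = r ^ n) {p : ℕ} (hpp : p.Prime) {x : MulAut ↥(chevG2.group F)}
    (hx : x ^ p = 1) :
    (Ty RowsUntw.g2T f n p x ∧ ((∃ y : ↥(chevG2.group F), x = MulAut.conj y) ∨
      x ∉ InD (emb RowsUntw.g2T.inList f))) ∨
    (p = 2 ∧ r = 3 ∧ ∃ (g : ↥(chevG2.group F)) (σ : Equiv.Perm (Fin 2)), σ ≠ 1 ∧
      H70.ChevField.Perm chevG2 F (MulAut.conj g * x) (σ : Equiv.Perm (Fin 2))) := by
  rcases frame_g2 r hx with ⟨g, τ, h1, h2⟩ | ⟨g, σ, h1, h2, h3⟩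
  · left
    obtain ⟨hl, hconn⟩ := conn_of_fin (r := r) RowsUntw.g2T (S1055.result exists_ne_gal)
    have hT := ty_of_tau RowsUntw.g2T f inv_G2 one_ne_zero hl hconn hpp hn h1 h2
    refine ⟨hT, ?_⟩
    by_cases hτ1 : τ = 1
    · left
      subst hτ1
      exact inner_of_tau (r := r) h1
    · right
      obtain ⟨i, m, hi, hm0, hcard, hfr⟩ := exists_field r hpp h2 hτ1
      have hmn : m * p = n := by
        rw [hn] at hcard
        exact (Nat.pow_right_injective (Fact.out : r.Prime).two_le hcard).symm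
      obtain ⟨g', eg⟩ := exists_conj_pow g x i
      have hτi := h1.pow i
      rw [eg, one_pow] at hτi
      obtain ⟨t, ht, e⟩ := exists_ext RowsUntw.g2T f r hconn inv_G2 one_ne_zero
        (fun c _ => ⟨f c, by rw [pow_one]⟩) hτi (τ' := frb (KK r) r m) (fun a => by
        rw [frb_apply, hfr, map_pow])
      refine not_inD_of_field f hn hpp (i := i) (m := m) (y := (emb RowsUntw.g2T.inList f g')⁻¹ * t) hm0 hmn ?_
      intro y
      have h1 := e y
      rw [MulAut.mul_apply, MulAut.conj_apply, map_mul, map_mul, map_inv] at h1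
      have h2 : emb RowsUntw.g2T.inList f ((x ^ i) y) = (emb RowsUntw.g2T.inList f g')⁻¹ *
        (emb RowsUntw.g2T.inList f g' * emb RowsUntw.g2T.inList f ((x ^ i) y) *
        (emb RowsUntw.g2T.inList f g')⁻¹) * emb RowsUntw.g2T.inList f g' := by group
      rw [h2, h1, MulAut.mul_apply, MulAut.conj_apply]
      show _ * (t * phi chevG2 (KK r) r m (emb RowsUntw.g2T.inList f y) * t⁻¹) * _ = _
      group
  · right
    refine ⟨?_, ?_, g, σ, h1, h3⟩
    · have h4 : orderOf σ ∣ p := orderOf_dvd_of_pow_eq_one h2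
      have h5 : σ ^ 2 = 1 := by
        rw [(H69.OutGF.perm2 σ).resolve_left h1]
        decide
      have h6 : orderOf σ ∣ 2 := orderOf_dvd_of_pow_eq_one h5
      have h7 : orderOf σ ≠ 1 := fun h => h1 (orderOf_eq_one_iff.1 h)
      have h8 : orderOf σ = 2 := ((Nat.dvd_prime Nat.prime_two).1 h6).resolve_left h7
      rw [h8] at h4
      exact ((Nat.prime_dvd_prime_iff_eq Nat.prime_two hpp).1 h4).symm
    · by_contra hr
      exact no_perm hr hq h1 h3

end Cfsg.Agent.H244.S3509G2
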