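import Cfsg.Agent.H244.S3509.AutG2
import Cfsg.Agent.H202.G2.Inner
import Cfsg.Agent.H566.G2.DerL0
import Cfsg.Agent.H873.RG.Defs
import Cfsg.Agent.H244.G2S.Main
import Cfsg.Agent.H72.G2G.Spec

/-!
# S3509: the row `G₂(q)` (helper244)
-/

set_option autoImplicit false
set_option linter.unusedSectionVars false

namespace Cfsg.Agent.H244.S3509G2

open Subgroup Cfsg Cfsg.Lie Cfsg.Lie.ChevalleyDatum
open Cfsg.Agent.ChevalleyStructure Cfsg.Agent.ChevalleyStructure.Elts Cfsg.Agent.ChevalleyStructure.CoxeterGeom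
  Cfsg.Agent.ChevalleyStructure.CoxeterGeomTypes
open Cfsg.Agent.Nodes.RGDChev Cfsg.Agent.KFacts.RgdChevCoord
open Cfsg.Agent.GpExc.Field (emb emb_injective)
open Cfsg.Agent.BpExc Cfsg.Agent.BpExc.FamField Cfsg.Agent.BpExc.FamUntw Cfsg.Agent.BpExc.FamInst
  Cfsg.Agent.BpExc.LangFr
open Cfsg.Agent.H469.Exc Cfsg.Agent.H469.Exc.SigFr
open Cfsg.Agent.H28.GenF Cfsg.Agent.H327.RG Cfsg.Agent.H106.RC Cfsg.Agent.H873.RG
open Cfsg.Agent.H46.Gen

/-- a pair of long roots of type `A₂` in `G₂` -/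
theorem pr_g2 : Pr chevG2 2 ![0, 1] ![3, 1] where
  ra := ⟨6, by decide +kernel, by decide +kernel⟩
  rb := ⟨10, by decide +kernel, by decide +kernel⟩
  rs := ⟨11, by decide +kernel, by decide +kernel⟩
  nd := by
    have h : ∀ r < chevG2.nroots, vec chevG2 2 r ≠ ![3, 1] - ![0, 1] := by decide +kernel
    rintro ⟨r, hr, h1⟩
    exact h r hr h1
  n1 := by
    have h : ∀ r < chevG2.nroots, vec chevG2 2 r ≠ ![3, 1] + (2 : ℤ) • ![0, 1] := by decide +kernel
    rintro ⟨r, hr, h1⟩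
    exact h r hr h1
  n2 := by
    have h : ∀ r < chevG2.nroots, vec chevG2 2 r ≠ ![0, 1] + (2 : ℤ) • ![3, 1] := by decide +kernel
    rintro ⟨r, hr, h1⟩
    exact h r hr h1

theorem card_lt {F : Type} [Field F] [Fintype F] (F₀ : Subfield F) (h : Nat.card ↥F₀ < Nat.card F) :
    Nat.card ↥⁅L0 RowsUntw.g2T F₀, L0 RowsUntw.g2T F₀⁆ < Nat.card ↥(chevG2.group F) := by
  classical
  have : Fintype ↥F₀ := Fintype.ofFinite _
  have hfin : Finite ↥(chevG2.group F) := Finite.of_injective _ (Subgroup.subtype_injective _)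
  have hfin0 : Finite ↥(chevG2.group ↥F₀) := Finite.of_injective _ (Subgroup.subtype_injective _)
  have h1 : Nat.card ↥⁅L0 RowsUntw.g2T F₀, L0 RowsUntw.g2T F₀⁆ ≤ Nat.card ↥(L0 RowsUntw.g2T F₀) :=
    Subgroup.card_le_of_le (Subgroup.commutator_le_self _)
  have h2 : Nat.card ↥(L0 RowsUntw.g2T F₀) ≤ Nat.card ↥(chevG2.group ↥F₀) :=
    Nat.card_le_card_of_surjective (emb RowsUntw.g2T.inList F₀.subtype).rangeRestrict
      (MonoidHom.rangeRestrict_surjective _)
  refine (h1.trans h2).trans_lt ?_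
  have e1 := Cfsg.Agent.S1059.result (F := F) rfl
  have e2 := Cfsg.Agent.S1059.result (F := ↥F₀) rfl
  rw [e1, e2]
  rw [Nat.card_eq_fintype_card, Nat.card_eq_fintype_card] at h
  have h3 : 1 < Fintype.card ↥F₀ := Fintype.one_lt_card
  generalize Fintype.card ↥F₀ = a at *
  generalize Fintype.card F = b at *
  have i2 : a ^ 2 < b ^ 2 := Nat.pow_lt_pow_left h (by norm_num)
  have i6 : a ^ 6 < b ^ 6 := Nat.pow_lt_pow_left h (by norm_num)
  have j2 : 1 < a ^ 2 := Nat.one_lt_pow (by norm_num) h3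
  have j6 : 1 < a ^ 6 := Nat.one_lt_pow (by norm_num) h3
  have k1 : a ^ 6 * (a ^ 2 - 1) < b ^ 6 * (b ^ 2 - 1) :=
    Nat.mul_lt_mul_of_lt_of_le i6 (by omega) (by omega)
  exact Nat.mul_lt_mul_of_lt_of_le k1 (by omega) (by omega)

/-- the graph case (helper72), as a statement -/
def GraphCase : Prop :=
  ∀ (F : Type) [Field F] [Fintype F] [CharP F 3] (f : F →+* KK 3) (n : ℕ), Nat.card F = 3 ^ n → Odd n →
    ∀ Γ : MulAut ↥(chevG2.group (KK 3)), SpecG Γ → IHx (Nat.card ↥(chevG2.group F)) →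
    ∀ (G Ω κ : Type) [Group G] [MulAction G Ω] [Nonempty Ω] [Finite κ] (N : Subgroup G) (hE : Env G Ω N)
      (e : N ≃* ↥(chevG2.group F)) (x : κ → G) (q : κ → ℕ), PF x q → Cov Ω x →
      ∀ i₀ : κ, q i₀ = 2 →
        (∃ y, ∀ a, emb RowsUntw.g2T.inList f (act hE e (x i₀) a) =
          y * (Γ ^ n) (emb RowsUntw.g2T.inList f a) * y⁻¹) →
        (∀ j, j ≠ i₀ → Ty RowsUntw.g2T f n (q j) (act hE e (x j))) → False

/-- inner automorphisms come from the socle -/
theorem mem_of_act {G Ω Y : Type} [Group G] [MulAction G Ω] [Group Y] {N : Subgroup G} (hE : Env G Ω N) (e : N ≃* Y)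
    {g : G} {y : Y} (h : act hE e g = MulAut.conj y) : g ∈ N := by
  have h1 : act hE e (e.symm y : G) = MulAut.conj y := by
    refine MulEquiv.ext fun a => e.symm.injective (Subtype.ext ?_)
    rw [coe_act, MulAut.conj_apply, map_mul, map_mul, map_inv]
    rfl
  have h2 : g = (e.symm y : G) := act_injective hE e (h.trans h1.symm)
  rw [h2]
  exact (e.symm y).2

/-- **The row `G₂(q)`**, from the classical groups and the graph case. -/
theorem row_g2_of
    (hC : ∀ (S : Type) [Group S] [Finite S], IsSimpleGroup S → ¬ IsMulCommutative S → Cl S → ¬ Exc S → RC S)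
    (hgraph : GraphCase) : RowX (fun S _ => Lie.IsoChevG2 S) := by
  intro S _ _ hS hiso hIH
  obtain ⟨F, iF, iF', hF, ⟨e₀⟩⟩ := hiso
  have hq : 3 ≤ Nat.card F := by rw [Nat.card_eq_fintype_card]; exact hF
  refine rc_of_noCov hS.simple hS.ncomm ?_
  intro G _ _ Ω _ _ _ N hE e₁ κ _ x q hx hcov _
  have hIH' : IHx (Nat.card ↥(chevG2.group F)) := by rwa [← Nat.card_congr e₀.toEquiv]
  obtain ⟨r, hr⟩ := CharP.exists F
  have hrp : r.Prime := (CharP.char_is_prime_or_zero F r).resolve_right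
    (fun h => CharP.char_ne_zero_of_finite F r h)
  have : Fact r.Prime := ⟨hrp⟩
  obtain ⟨f⟩ := RowsUntw.exists_emb r F
  obtain ⟨n, hn0, hn⟩ := exists_card (F := F) r
  have e : N ≃* ↥(chevG2.group F) := e₁.trans e₀
  have hpow : ∀ j, act hE e (x j) ^ q j = 1 := fun j => by rw [← map_pow, hx.pow, map_one]
  have hcs := fun j => cases_g2' hq f hn (hx.prime j) (hpow j)
  by_cases hgr : ∀ j, Ty RowsUntw.g2T f n (q j) (act hE e (x j)) ∧
      ((∃ y : ↥(chevG2.group F), act hE e (x j) = MulAut.conj y) ∨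
        act hE e (x j) ∉ InD (emb RowsUntw.g2T.inList f))
  · by_cases hin : ∀ j, ∃ y : ↥(chevG2.group F), act hE e (x j) = MulAut.conj y
    · -- all inner
      obtain ⟨e₂⟩ := H244.G2S.exists_equiv (F := F)
      refine Cfsg.Agent.H202.G2.inner_G2 hq hC hE (e.trans e₂.symm) hx hcov fun j => ?_
      obtain ⟨y, hy⟩ := hin j
      exact mem_of_act hE e hy
    · push Not at hin
      obtain ⟨i₀, hi₀⟩ := hin
      have hi₁ : act hE e (x i₀) ∉ InD (emb RowsUntw.g2T.inList f) :=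
        (hgr i₀).2.resolve_left (fun ⟨y, hy⟩ => hi₀ y hy)
      refine field_untw RowsUntw.g2T pr_g2 f hn (center_bot' (S1055.result (exists_ne_algClosed _))) ?_ hE e hx hcov
        (fun j => (hgr j).1) hi₁
      intro F₀ hF₀
      obtain ⟨h1, h2, h3⟩ := H566.G2.der_L0 F₀
      exact ⟨h1, h2, hIH' _ ⟨h1, h2, h3⟩ (card_lt F₀ hF₀)⟩
  · push Not at hgr
    obtain ⟨i₀, hi₀⟩ := hgr
    obtain ⟨hq2, hr3, g, σ, hσ, hP⟩ := (hcs i₀).resolve_left (fun ⟨h1, h2⟩ => by
      obtain ⟨h3, h4⟩ := hi₀ h1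
      exact h2.elim (fun ⟨y, hy⟩ => h3 y hy) (fun h5 => h5 h4))
    subst hr3
    obtain ⟨Γ, hΓ⟩ := H72.G2G.exists_spec (KK 3)
    have hΓ' : SpecG Γ := hΓ
    obtain ⟨hodd, hy⟩ := graph_of_perm f hn hΓ' (x := act hE e (x i₀)) (by rw [← hq2]; exact hpow i₀) hσ hP
    refine hgraph F f n hn hodd Γ hΓ' hIH' G Ω κ N hE e x q hx hcov i₀ hq2 hy ?_
    intro j hj
    rcases hcs j with h | h
    · exact h.1
    · exact (hj (hx.inj (h.1.trans hq2.symm))).elim

end Cfsg.Agent.H244.S3509G2
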