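import Cfsg.Agent.H244.S3509.RowG2
import Cfsg.Agent.H72.G2G.Main

/-!
# S3509: the row `G₂(q)`, unconditional given the classical groups (helper244)
-/

set_option autoImplicit false

namespace Cfsg.Agent.H244.S3509G2

open Cfsg Cfsg.Agent.H106.RC Cfsg.Agent.H873.RG

theorem graphCase : GraphCase := by
  intro F _ _ _ f n hn hodd Γ hΓ hIH G Ω κ _ _ _ _ N hE e x q hx hcov i₀ h2 hi₀ hT
  exact Cfsg.Agent.H72.G2G.graph_G2 f hn hodd hΓ hIH hE e hx hcov h2 hi₀ hT

/-- **The row `G₂(q)`.** -/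
theorem row_g2
    (hC : ∀ (S : Type) [Group S] [Finite S], IsSimpleGroup S → ¬ IsMulCommutative S → Cl S → ¬ Exc S → RC S) :
    RowX (fun S _ => Lie.IsoChevG2 S) := row_g2_of hC graphCase

end Cfsg.Agent.H244.S3509G2
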